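import Groth.Prelude.Def_W4c5suslinpi1abAdj

/-! Adjoint transposes and naturality of projection morphisms and exterior products. -/

set_option autoImplicit false
set_option linter.unusedSectionVars false
set_option linter.style.haveILetI false

universe v u

open CategoryTheory MonoidalCategory Functor.LaxMonoidal Functor.OplaxMonoidal W4c5suslinpi1ab

namespace Groth.SuslinAdj

variable {C : Type u} [Category.{v} C] [MonoidalCategory C]
variable {D : Type u} [Category.{v} D] [MonoidalCategory D]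
variable {L : C ⥤ D} {R : D ⥤ C} (adj : L ⊣ R) [R.LaxMonoidal]

lemma map_projR_counit [L.OplaxMonoidal] [adj.IsMonoidal] (A : D) (B : C) :
    L.map (projR adj A B) ≫ adj.counit.app _ = δ L (R.obj A) B ≫ (adj.counit.app A ▷ L.obj B) := by
  rw [projR, Functor.map_comp, Category.assoc, Adjunction.map_μ_comp_counit_app_tensor]
  erw [← δ_natural_right_assoc]
  dsimp
  rw [ MonoidalCategory.tensorHom_def', ← MonoidalCategory.whiskerLeft_comp_assoc,
    adj.left_triangle_components, MonoidalCategory.whiskerLeft_id, Category.id_comp]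

lemma map_projL_counit [L.OplaxMonoidal] [adj.IsMonoidal] (A : C) (B : D) :
    L.map (projL adj A B) ≫ adj.counit.app _ = δ L A (R.obj B) ≫ (L.obj A ◁ adj.counit.app B) := by
  rw [projL, Functor.map_comp, Category.assoc, Adjunction.map_μ_comp_counit_app_tensor]
  erw [← δ_natural_left_assoc]
  dsimp
  rw [ MonoidalCategory.tensorHom_def, ← MonoidalCategory.comp_whiskerRight_assoc,
    adj.left_triangle_components, MonoidalCategory.id_whiskerRight, Category.id_comp]

lemma projR_natural_right (A : D) {B B' : C} (b : B ⟶ B') :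
    (R.obj A ◁ b) ≫ projR adj A B' = projR adj A B ≫ R.map (A ◁ L.map b) := by
  rw [projR, projR, Category.assoc, ← μ_natural_right, ← MonoidalCategory.whiskerLeft_comp_assoc,
    ← MonoidalCategory.whiskerLeft_comp_assoc]
  congr 2
  exact adj.unit.naturality b

lemma projR_natural_left {A A' : D} (a : A ⟶ A') (B : C) :
    (R.map a ▷ B) ≫ projR adj A' B = projR adj A B ≫ R.map (a ▷ L.obj B) := by
  rw [projR, projR, Category.assoc, ← μ_natural_left, ← whisker_exchange_assoc]
  rfl

lemma projL_natural_left {A A' : C} (a : A ⟶ A') (B : D) :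
    (a ▷ R.obj B) ≫ projL adj A' B = projL adj A B ≫ R.map (L.map a ▷ B) := by
  rw [projL, projL, Category.assoc, ← μ_natural_left, ← MonoidalCategory.comp_whiskerRight_assoc,
    ← MonoidalCategory.comp_whiskerRight_assoc]
  congr 2
  exact adj.unit.naturality a

lemma projL_natural_right (A : C) {B B' : D} (b : B ⟶ B') :
    (A ◁ R.map b) ≫ projL adj A B' = projL adj A B ≫ R.map (L.obj A ◁ b) := by
  rw [projL, projL, Category.assoc, ← μ_natural_right, whisker_exchange_assoc]
  rfl

omit [R.LaxMonoidal] in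
lemma map_homEquiv_counit {S : C ⥤ D} (adj' : R ⊣ S) {Z : D} {W : C} (k : R.obj Z ⟶ W) :
    R.map (adj'.homEquiv Z W k) ≫ adj'.counit.app W = k :=
  (adj'.homEquiv_counit _ _ _).symm.trans (Equiv.symm_apply_apply _ _)

variable {S : C ⥤ D} (adj' : R ⊣ S) [∀ (A : D) (B : C), IsIso (projR adj A B)]

lemma map_cupShriek_counit (A B : C) :
    R.map (cupShriek adj adj' A B) ≫ adj'.counit.app (A ⊗ B) =
      inv (projR adj (S.obj A) B) ≫ (adj'.counit.app A ▷ B) := by
  rw [cupShriek]
  exact (adj'.homEquiv_counit _ _ _).symm.trans (Equiv.symm_apply_apply _ _)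

lemma cupShriek_natural_right (A : C) {B B' : C} (b : B ⟶ B') :
    (S.obj A ◁ L.map b) ≫ cupShriek adj adj' A B' = cupShriek adj adj' A B ≫ S.map (A ◁ b) := by
  rw [cupShriek, cupShriek, ← Adjunction.homEquiv_naturality_left,
    ← Adjunction.homEquiv_naturality_right]
  congr 1
  rw [← cancel_epi (projR adj (S.obj A) B), ← reassoc_of% (projR_natural_right adj (S.obj A) b),
    IsIso.hom_inv_id_assoc, Category.assoc, IsIso.hom_inv_id_assoc, whisker_exchange]
  rfl

section Square

variable {S₀ : Type u} [Category.{v} S₀] [MonoidalCategory S₀]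
variable {Y₁ : Type u} [Category.{v} Y₁] [MonoidalCategory Y₁]
variable {Y₂ : Type u} [Category.{v} Y₂] [MonoidalCategory Y₂]
variable {X : Type u} [Category.{v} X] [MonoidalCategory X]
variable {fL : S₀ ⥤ Y₁} {fR : Y₁ ⥤ S₀} (adjf : fL ⊣ fR) [fR.LaxMonoidal] {gR : Y₂ ⥤ S₀}
  {pL : Y₁ ⥤ X} {pR : X ⥤ Y₁} (adjp : pL ⊣ pR) [pR.LaxMonoidal] {qL : Y₂ ⥤ X} {qR : X ⥤ Y₂}
  (adjq : qL ⊣ qR) (ν : qR ⋙ gR ⟶ pR ⋙ fR)

lemma extProd_natural {A A' : Y₁} {B B' : Y₂} (a : A' ⟶ A) (b : B' ⟶ B) :
    (fR.map a ⊗ₘ gR.map b) ≫ extProd adjf adjp adjq ν A B =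
      extProd adjf adjp adjq ν A' B' ≫ fR.map (pR.map (pL.map a ⊗ₘ qL.map b)) := by
  have hb : fL.map (gR.map b) ≫ (bcMor adjf adjq ν).app B =
      (bcMor adjf adjq ν).app B' ≫ pR.map (qL.map b) := (bcMor adjf adjq ν).naturality b
  have h1 : (fR.map a ▷ gR.obj B') ≫ (fR.obj A ◁ gR.map b) ≫ projR adjf A (gR.obj B) =
      projR adjf A' (gR.obj B') ≫ fR.map ((a ▷ fL.obj (gR.obj B')) ≫ (A ◁ fL.map (gR.map b))) := by
    rw [projR_natural_right, reassoc_of% (projR_natural_left adjf a (gR.obj B')), Functor.map_comp]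
  rw [extProd, extProd, MonoidalCategory.tensorHom_def, Category.assoc, reassoc_of% h1]
  simp only [Category.assoc, ← Functor.map_comp]
  congr 2
  rw [← MonoidalCategory.whiskerLeft_comp_assoc, hb, MonoidalCategory.whiskerLeft_comp_assoc,
    projL_natural_right, ← whisker_exchange_assoc]
  dsimp
  rw [
    reassoc_of% (projL_natural_left adjp a (qL.obj B')), ← Functor.map_comp,
    MonoidalCategory.tensorHom_def]

theorem homEquiv_symm_extProd [fL.OplaxMonoidal] [adjf.IsMonoidal] [pL.OplaxMonoidal]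
    [adjp.IsMonoidal] (A : Y₁) (B : Y₂) :
    ((adjf.comp adjp).homEquiv _ _).symm (extProd adjf adjp adjq ν A B) =
      δ (fL ⋙ pL) (fR.obj A) (gR.obj B) ≫
        (pL.map (adjf.counit.app A) ⊗ₘ
          (pL.map ((bcMor adjf adjq ν).app B) ≫ adjp.counit.app (qL.obj B))) := by
  rw [Adjunction.comp_homEquiv, Equiv.symm_trans_apply, Adjunction.homEquiv_counit,
    Adjunction.homEquiv_counit, extProd, fL.map_comp, fL.map_comp, Category.assoc, Category.assoc]
  rw [Adjunction.counit_naturality, Adjunction.counit_naturality_assoc,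
    reassoc_of% (map_projR_counit adjf A (gR.obj B))]
  simp only [Functor.map_comp, Category.assoc]
  rw [map_projL_counit]
  erw [← δ_natural_right_assoc, ← δ_natural_left_assoc]
  rw [Functor.OplaxMonoidal.comp_δ]
  simp only [Category.assoc, MonoidalCategory.tensorHom_def, MonoidalCategory.whiskerLeft_comp]
  rfl

variable {fS : S₀ ⥤ Y₁} (adjf' : fR ⊣ fS) {gS : S₀ ⥤ Y₂} (adjg' : gR ⊣ gS)
  {pS : Y₁ ⥤ X} (adjp' : pR ⊣ pS)
  [∀ (A : Y₁) (B : S₀), IsIso (projR adjf A B)]
  [∀ (A : Y₁) (B : X), IsIso (projL adjp A B)]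
  [∀ B : Y₂, IsIso ((bcMor adjf adjq ν).app B)]

theorem extProd_counit (A B : S₀) :
    extProd adjf adjp adjq ν (fS.obj A) (gS.obj B) ≫
      fR.map (pR.map (prodShriek adjf adjf' adjg' adjp adjp' adjq ν A B)) ≫
        fR.map (adjp'.counit.app (fS.obj (A ⊗ B))) =
      projR adjf (fS.obj A) (gR.obj (gS.obj B)) ≫
        fR.map (cupShriek adjf adjf' A (gR.obj (gS.obj B)) ≫ fS.map (A ◁ adjg'.counit.app B)) := by
  rw [← fR.map_comp, prodShriek, map_homEquiv_counit, extProd]
  simp only [Category.assoc, ← Functor.map_comp]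
  rw [IsIso.hom_inv_id_assoc, ← MonoidalCategory.whiskerLeft_comp_assoc, IsIso.hom_inv_id,
    MonoidalCategory.whiskerLeft_id, Category.id_comp]

theorem extProd_prodShriek_counit (A B : S₀) :
    extProd adjf adjp adjq ν (fS.obj A) (gS.obj B) ≫
      fR.map (pR.map (prodShriek adjf adjf' adjg' adjp adjp' adjq ν A B)) ≫
        fR.map (adjp'.counit.app (fS.obj (A ⊗ B))) =
      (fR.obj (fS.obj A) ◁ adjg'.counit.app B) ≫ projR adjf (fS.obj A) B ≫
        fR.map (cupShriek adjf adjf' A B) := by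
  rw [extProd_counit, ← cupShriek_natural_right, Functor.map_comp,
    reassoc_of% (projR_natural_right adjf (fS.obj A) (adjg'.counit.app B))]
  rfl

theorem extProd_comp_symm_prodShriek (A B : S₀) :
    extProd adjf adjp adjq ν (fS.obj A) (gS.obj B) ≫
      ((adjp'.comp adjf').homEquiv _ _).symm
        (prodShriek adjf adjf' adjg' adjp adjp' adjq ν A B) =
      (adjf'.counit.app A ⊗ₘ adjg'.counit.app B) := by
  rw [Adjunction.comp_homEquiv, Equiv.symm_trans_apply, Adjunction.homEquiv_counit,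
    Adjunction.homEquiv_counit, fR.map_comp, Category.assoc,
    reassoc_of% (extProd_prodShriek_counit adjf adjp adjq ν adjf' adjg' adjp' A B),
    map_cupShriek_counit, IsIso.hom_inv_id_assoc, MonoidalCategory.tensorHom_def']
  rfl

theorem compatible_iff (A B : S₀) (A' : Y₁) (B' : Y₂) (C' : X)
    (trA : A' ⟶ fS.obj A) (trB : B' ⟶ gS.obj B) (trC : C' ⟶ pS.obj (fS.obj (A ⊗ B)))
    (m : pL.obj A' ⊗ qL.obj B' ⟶ C') :
    ((pL.map trA ⊗ₘ qL.map trB) ≫ prodShriek adjf adjf' adjg' adjp adjp' adjq ν A B =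
        m ≫ trC) ↔
      (((adjf'.homEquiv _ _).symm trA ⊗ₘ (adjg'.homEquiv _ _).symm trB) =
        extProd adjf adjp adjq ν A' B' ≫ fR.map (pR.map m) ≫
          ((adjp'.comp adjf').homEquiv _ _).symm trC) := by
  have key : ((adjf'.homEquiv _ _).symm trA ⊗ₘ (adjg'.homEquiv _ _).symm trB) =
      extProd adjf adjp adjq ν A' B' ≫ ((adjp'.comp adjf').homEquiv _ _).symm
        ((pL.map trA ⊗ₘ qL.map trB) ≫ prodShriek adjf adjf' adjg' adjp adjp' adjq ν A B) := by
    rw [Adjunction.homEquiv_naturality_left_symm, Functor.comp_map,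
      ← reassoc_of% (extProd_natural adjf adjp adjq ν trA trB), extProd_comp_symm_prodShriek,
      Adjunction.homEquiv_counit, Adjunction.homEquiv_counit, MonoidalCategory.tensorHom_comp_tensorHom]
  have e : fR.map (pR.map m) ≫ ((adjp'.comp adjf').homEquiv _ _).symm trC =
      ((adjp'.comp adjf').homEquiv _ _).symm (m ≫ trC) :=
    ((adjp'.comp adjf').homEquiv_naturality_left_symm m trC).symm
  haveI : IsIso (extProd adjf adjp adjq ν A' B') := by
    unfold extProd; infer_instance
  rw [key, e, cancel_epi, EmbeddingLike.apply_eq_iff_eq]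

end Square

end Groth.SuslinAdj
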